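import Mathlib
import Groth.Prelude.Def_AlgSt5
import Groth.Agent.Lib.Helper3.StackDescent

/-!
# Descent of morphisms out of a cartesian cocone of schemes over a covering sieve (helper3)

`CData R`: a family of `S`-schemes `Pa a` over the members `a` of a sieve `R` on `U`, with
transition maps, together with an `S`-scheme `P` over `U` and cartesian legs `Pa a ⟶ P`.
If `R` is covering for a subcanonical topology then `Z ⊗ P` is the colimit of the `Z ⊗ Pa a`.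
-/

set_option autoImplicit false
set_option backward.isDefEq.respectTransparency false
set_option backward.isDefEq.respectTransparency.types false

universe u

open CategoryTheory CategoryTheory.Limits MonoidalCategory CartesianMonoidalCategory
  AlgebraicGeometry Opposite

namespace Groth.Agent.H3.QStk

open Groth.Agent.H3.StackDescent

variable {S : Scheme.{u}} {U : Over S}

/-- a cartesian cocone of schemes over a sieve -/
structure CData (R : Sieve U) where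
  Pa : R.arrows.category → Over S
  pa : ∀ a, Pa a ⟶ a.obj.left
  tr : ∀ {a b : R.arrows.category}, (a ⟶ b) → (Pa a ⟶ Pa b)
  tr_pa : ∀ {a b : R.arrows.category} (w : a ⟶ b), tr w ≫ pa b = pa a ≫ w.hom.left
  P : Over S
  π : P ⟶ U
  top : ∀ a, Pa a ⟶ P
  top_tr : ∀ {a b : R.arrows.category} (w : a ⟶ b), tr w ≫ top b = top a
  cart : ∀ a, IsPullback (top a) (pa a) π a.obj.hom

variable {R : Sieve U}

/-- morphism of the sieve category into a given object -/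
def mkHomTo (a : R.arrows.category) {W : Over S} (k : W ⟶ a.obj.left) (f' : W ⟶ U) (hf' : R f')
    (h : k ≫ a.obj.hom = f') : mkObj R f' hf' ⟶ a :=
  ObjectProperty.homMk (Over.homMk k h)

@[simp] lemma mkHomTo_left (a : R.arrows.category) {W : Over S} (k : W ⟶ a.obj.left) (f' : W ⟶ U)
    (hf' : R f') (h : k ≫ a.obj.hom = f') : (mkHomTo a k f' hf' h).hom.left = k := rfl

namespace CData

variable (d : CData R)

lemma tr_sec {a b : R.arrows.category} (w : a ⟶ b) {W : Over S} (σ : W ⟶ d.Pa a)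
    (σ' : W ⟶ d.Pa b) (h1 : σ ≫ d.top a = σ' ≫ d.top b)
    (h2 : σ ≫ d.pa a ≫ w.hom.left = σ' ≫ d.pa b) : σ ≫ d.tr w = σ' := by
  apply (d.cart b).hom_ext
  · rw [Category.assoc, d.top_tr, h1]
  · rw [Category.assoc, d.tr_pa, h2]

/-- the tautological section over a point of `P` lying in the sieve -/
noncomputable def sec {W : Over S} (q : W ⟶ d.P) (hq : R (q ≫ d.π)) :
    W ⟶ d.Pa (mkObj R (q ≫ d.π) hq) :=
  (d.cart (mkObj R (q ≫ d.π) hq)).lift q (𝟙 W) (by rw [Category.id_comp]; rfl)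

lemma sec_top {W : Over S} (q : W ⟶ d.P) (hq : R (q ≫ d.π)) :
    d.sec q hq ≫ d.top (mkObj R (q ≫ d.π) hq) = q :=
  IsPullback.lift_fst _ _ _ _

lemma sec_pa {W : Over S} (q : W ⟶ d.P) (hq : R (q ≫ d.π)) :
    d.sec q hq ≫ d.pa (mkObj R (q ≫ d.π) hq) = 𝟙 W :=
  IsPullback.lift_snd _ _ _ _

/-- the local value of the descended morphism -/
noncomputable def loc {Z Q : Over S} (ψ : ∀ a, Z ⊗ d.Pa a ⟶ Q) {W : Over S} (h : W ⟶ Z ⊗ d.P)
    (hh : R ((h ≫ snd Z d.P) ≫ d.π)) : W ⟶ Q :=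
  lift (h ≫ fst Z d.P) (d.sec (h ≫ snd Z d.P) hh) ≫ ψ _

lemma loc_eq {Z Q : Over S} (ψ : ∀ a, Z ⊗ d.Pa a ⟶ Q)
    (hψ : ∀ {a b : R.arrows.category} (w : a ⟶ b), (Z ◁ d.tr w) ≫ ψ b = ψ a)
    {W : Over S} (h : W ⟶ Z ⊗ d.P) (hh : R ((h ≫ snd Z d.P) ≫ d.π))
    (a : R.arrows.category) (σ : W ⟶ d.Pa a) (hσ : σ ≫ d.top a = h ≫ snd Z d.P) :
    d.loc ψ h hh = lift (h ≫ fst Z d.P) σ ≫ ψ a := by
  have hw : (σ ≫ d.pa a) ≫ a.obj.hom = (h ≫ snd Z d.P) ≫ d.π := by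
    rw [Category.assoc, ← (d.cart a).w, ← Category.assoc, hσ]
  have e := d.tr_sec (mkHomTo a (σ ≫ d.pa a) _ hh hw) (d.sec (h ≫ snd Z d.P) hh) σ
    (by rw [d.sec_top, hσ])
    (by rw [mkHomTo_left, ← Category.assoc, d.sec_pa, Category.id_comp])
  unfold loc
  rw [← hψ (mkHomTo a (σ ≫ d.pa a) _ hh hw), lift_whiskerLeft_assoc, e]

lemma mem_whisker (Z : Over S) (a : R.arrows.category) :
    R (((Z ◁ d.top a) ≫ snd Z d.P) ≫ d.π) := by
  have e : ((Z ◁ d.top a) ≫ snd Z d.P) ≫ d.π = (snd Z (d.Pa a) ≫ d.pa a) ≫ a.obj.hom := by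
    rw [whiskerLeft_snd, Category.assoc, Category.assoc, (d.cart a).w]
  rw [e]
  exact R.downward_closed a.property _

variable (J : GrothendieckTopology (Over S)) [J.Subcanonical]

/-- **Descent of morphisms**: `Z ⊗ P` is the colimit of the `Z ⊗ Pa a`. -/
theorem exists_unique_desc (hR : R ∈ J U) (Z Q : Over S) (ψ : ∀ a, Z ⊗ d.Pa a ⟶ Q)
    (hψ : ∀ {a b : R.arrows.category} (w : a ⟶ b), (Z ◁ d.tr w) ≫ ψ b = ψ a) :
    ∃! Ψ : Z ⊗ d.P ⟶ Q, ∀ a, (Z ◁ d.top a) ≫ Ψ = ψ a := by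
  have hcov : R.pullback (snd Z d.P ≫ d.π) ∈ J (Z ⊗ d.P) := J.pullback_stable _ hR
  have hsh : Presieve.IsSheafFor (yoneda.obj Q) (R.pullback (snd Z d.P ≫ d.π)).arrows :=
    (GrothendieckTopology.Subcanonical.isSheaf_of_isRepresentable (J := J) (yoneda.obj Q)) _ hcov
  have hmem : ∀ {W : Over S} (h : W ⟶ Z ⊗ d.P), R.pullback (snd Z d.P ≫ d.π) h →
      R ((h ≫ snd Z d.P) ≫ d.π) := fun h hh => by
    rw [Category.assoc]; exact hh
  let x : Presieve.FamilyOfElements (yoneda.obj Q) (R.pullback (snd Z d.P ≫ d.π)).arrows :=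
    fun W h hh => d.loc ψ h (hmem h hh)
  have hx : x.SieveCompatible := by
    intro W W' h k hh
    change d.loc ψ (k ≫ h) _ = k ≫ d.loc ψ h _
    rw [d.loc_eq ψ hψ (k ≫ h) _ _ (k ≫ d.sec (h ≫ snd Z d.P) (hmem h hh))
      (by rw [Category.assoc, d.sec_top, Category.assoc])]
    unfold loc
    have e2 : k ≫ lift (h ≫ fst Z d.P) (d.sec (h ≫ snd Z d.P) (hmem h hh)) =
        lift ((k ≫ h) ≫ fst Z d.P) (k ≫ d.sec (h ≫ snd Z d.P) (hmem h hh)) := by
      rw [comp_lift]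
      congr 1
    rw [← Category.assoc, e2]
  have hxc := (Presieve.compatible_iff_sieveCompatible x).mpr hx
  refine ⟨hsh.amalgamate x hxc, fun a => ?_, fun Ψ' hΨ' => ?_⟩
  · have hin : R.pullback (snd Z d.P ≫ d.π) (Z ◁ d.top a) := by
      change R ((Z ◁ d.top a) ≫ snd Z d.P ≫ d.π)
      rw [← Category.assoc]; exact d.mem_whisker Z a
    have hv := hsh.valid_glue hxc (Z ◁ d.top a) hin
    change (Z ◁ d.top a) ≫ hsh.amalgamate x hxc = d.loc ψ (Z ◁ d.top a) _ at hv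
    rw [hv, d.loc_eq ψ hψ (Z ◁ d.top a) _ a (snd Z (d.Pa a)) (whiskerLeft_snd _ _).symm,
      whiskerLeft_fst, lift_fst_snd, Category.id_comp]
  · apply hsh.isSeparatedFor.ext
    intro W h hh
    change h ≫ Ψ' = h ≫ hsh.amalgamate x hxc
    have hv := hsh.valid_glue hxc h hh
    change h ≫ hsh.amalgamate x hxc = d.loc ψ h _ at hv
    rw [hv]
    have eh : h = lift (h ≫ fst Z d.P) (d.sec (h ≫ snd Z d.P) (hmem h hh)) ≫ (Z ◁ d.top _) := by
      apply CartesianMonoidalCategory.hom_ext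
      · rw [Category.assoc, whiskerLeft_fst, lift_fst]
      · rw [Category.assoc, whiskerLeft_snd, lift_snd_assoc, d.sec_top]
    conv_lhs => rw [eh]
    rw [Category.assoc, hΨ']
    rfl

theorem hom_ext (hR : R ∈ J U) {Z Q : Over S} (u v : Z ⊗ d.P ⟶ Q)
    (h : ∀ a, (Z ◁ d.top a) ≫ u = (Z ◁ d.top a) ≫ v) : u = v := by
  obtain ⟨Ψ, -, hΨ⟩ := d.exists_unique_desc J hR Z Q (fun a => (Z ◁ d.top a) ≫ u)
    (fun w => by rw [← MonoidalCategory.whiskerLeft_comp_assoc, d.top_tr])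
  rw [hΨ u (fun a => rfl), hΨ v (fun a => (h a).symm)]

theorem exists_unique_desc₀ (hR : R ∈ J U) (Q : Over S) (ψ : ∀ a, d.Pa a ⟶ Q)
    (hψ : ∀ {a b : R.arrows.category} (w : a ⟶ b), d.tr w ≫ ψ b = ψ a) :
    ∃! Ψ : d.P ⟶ Q, ∀ a, d.top a ≫ Ψ = ψ a := by
  obtain ⟨Ψ', hΨ', huniq⟩ := d.exists_unique_desc J hR (𝟙_ (Over S)) Q
    (fun a => snd _ (d.Pa a) ≫ ψ a) (fun w => by rw [whiskerLeft_snd_assoc, hψ])
  refine ⟨lift (toUnit d.P) (𝟙 d.P) ≫ Ψ', fun a => ?_, fun Ψ₂ h₂ => ?_⟩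
  · have e : d.top a ≫ lift (toUnit d.P) (𝟙 d.P) =
        lift (toUnit _) (𝟙 _) ≫ (𝟙_ (Over S) ◁ d.top a) := by
      apply CartesianMonoidalCategory.hom_ext
      · exact toUnit_unique _ _
      · simp
    rw [← Category.assoc, e, Category.assoc, hΨ', lift_snd_assoc, Category.id_comp]
  · have h3 : snd (𝟙_ (Over S)) d.P ≫ Ψ₂ = Ψ' :=
      huniq _ (fun a => by rw [whiskerLeft_snd_assoc, h₂])
    rw [← h3, lift_snd_assoc, Category.id_comp]

theorem hom_ext₀ (hR : R ∈ J U) {Q : Over S} (u v : d.P ⟶ Q)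
    (h : ∀ a, d.top a ≫ u = d.top a ≫ v) : u = v := by
  obtain ⟨Ψ, -, hΨ⟩ := d.exists_unique_desc₀ J hR Q (fun a => d.top a ≫ u)
    (fun w => by rw [← Category.assoc, d.top_tr])
  rw [hΨ u (fun a => rfl), hΨ v (fun a => (h a).symm)]

end CData

end Groth.Agent.H3.QStk
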