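import Mathlib
import Groth.Prelude.Def_AlgSt5
import Groth.Agent.H4.QstE

/-!
# The quotient category `[X/G]` is fibred in groupoids (helper3)
-/

set_option autoImplicit false
set_option backward.isDefEq.respectTransparency false
set_option backward.isDefEq.respectTransparency.types false

universe u

open CategoryTheory CategoryTheory.Limits MonoidalCategory CartesianMonoidalCategory MonObj GrpObj
  AlgebraicGeometry

namespace Groth.Agent.H3.QStk

variable {S : Scheme.{u}} {K : Precoverage Scheme.{u}} {G : Over S} [GrpObj G] {X : Over S}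
  {aX : AlgGrp.Action G X}

section Pull

variable (A : AlgSt.QuotObj K G aX) {V P' : Over S} {f : V ⟶ A.base} {top : P' ⟶ A.P}
  {π' : P' ⟶ V} (sq : IsPullback top π' A.π f)

include sq in
lemma pull_w : ((G ◁ top) ≫ A.act.act) ≫ A.π = (snd G P' ≫ π') ≫ f := by
  simp only [Category.assoc]
  rw [A.cart.w, whiskerLeft_snd_assoc, sq.w]

/-- the pulled back action morphism -/
noncomputable def pullActMor : G ⊗ P' ⟶ P' :=
  sq.lift ((G ◁ top) ≫ A.act.act) (snd G P' ≫ π') (pull_w A sq)

lemma pullActMor_top : pullActMor A sq ≫ top = (G ◁ top) ≫ A.act.act := sq.lift_fst _ _ _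

lemma pullActMor_π : pullActMor A sq ≫ π' = snd G P' ≫ π' := sq.lift_snd _ _ _

/-- the pulled back action -/
noncomputable def pullAct : AlgGrp.Action G P' where
  act := pullActMor A sq
  one_act := by
    apply sq.hom_ext
    · rw [Category.assoc, pullActMor_top, ← whisker_exchange_assoc, A.act.one_act,
        leftUnitor_naturality]
    · rw [Category.assoc, pullActMor_π, whiskerRight_snd_assoc, leftUnitor_hom]
  mul_act := by
    apply sq.hom_ext
    · simp only [Category.assoc]
      rw [pullActMor_top, ← whisker_exchange_assoc, A.act.mul_act,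
        ← MonoidalCategory.whiskerLeft_comp_assoc, pullActMor_top,
        MonoidalCategory.whiskerLeft_comp, Category.assoc, associator_naturality_right_assoc]
    · simp only [Category.assoc]
      rw [pullActMor_π, whiskerRight_snd_assoc, whiskerLeft_snd_assoc, pullActMor_π,
        associator_hom_snd_snd_assoc]

lemma pull_cart : IsPullback (pullActMor A sq) (snd G P') π' π' := by
  have H1 : IsPullback (G ◁ top) (snd G P') (snd G A.P) top :=
    AlgSt.isPullback_whiskerLeft (G := G) top
  have H := H1.paste_horiz A.cart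
  refine IsPullback.of_right ?_ (pullActMor_π A sq) sq
  rw [pullActMor_top, ← sq.w]
  exact H

include sq in
lemma pull_loc [K.IsStableUnderBaseChange] :
    NonAbH1.IsLocallyTrivialFor K (Over.mk π'.left : Over V.left) := by
  obtain ⟨R, hR, hsec⟩ := A.loc
  have sqL : IsPullback top.left π'.left A.π.left f.left := IsPullback.map (Over.forget S) sq
  refine ⟨R.pullbackArrows f.left, Precoverage.pullbackArrows_mem f.left hR, ?_⟩
  rintro S' g ⟨Z, h, hh⟩
  obtain ⟨s, hs⟩ := hsec h hh
  have hs' : s ≫ A.π.left = h := hs
  refine ⟨sqL.lift (pullback.fst h f.left ≫ s) (pullback.snd h f.left) ?_, sqL.lift_snd _ _ _⟩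
  rw [Category.assoc, hs']
  exact pullback.condition

/-- the pulled back object of `[X/G]` -/
noncomputable def pullObj [K.IsStableUnderBaseChange] : AlgSt.QuotObj K G aX where
  base := V
  P := P'
  act := pullAct A sq
  π := π'
  cart := pull_cart A sq
  loc := pull_loc A sq
  φ := top ≫ A.φ
  eqv := by
    change pullActMor A sq ≫ top ≫ A.φ = (G ◁ (top ≫ A.φ)) ≫ aX.act
    rw [← Category.assoc, pullActMor_top, Category.assoc, A.eqv,
      MonoidalCategory.whiskerLeft_comp, Category.assoc]

/-- the cartesian morphism from the pulled back object -/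
noncomputable def pullHom [K.IsStableUnderBaseChange] : pullObj A sq ⟶ A :=
  AlgSt.QuotObj.Hom.mk f top (pullActMor_top A sq) sq rfl

end Pull

/-- `[X/G]` is fibred in groupoids over `(Sch/S)`. -/
theorem isFibGrpd [K.IsStableUnderBaseChange] :
    FibCat.IsFibGrpd (AlgSt.QuotSt K G aX).p where
  exists_lift := fun {A} {V} f => by
    have sq : IsPullback (pullback.fst A.π f) (pullback.snd A.π f) A.π f :=
      IsPullback.of_hasPullback _ _
    exact ⟨pullObj A sq, pullHom A sq, IsHomLift.map (AlgSt.QuotObj.forget K G aX) (pullHom A sq)⟩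
  isStronglyCartesian := fun {B A} φ =>
    { universal_property' := fun {C} g φ' hφ' => by
        have hg : g ≫ φ.base = φ'.base :=
          IsHomLift.eq_of_isHomLift (AlgSt.QuotObj.forget K G aX)
            (g ≫ (AlgSt.QuotObj.forget K G aX).map φ) φ'
        obtain ⟨k, hk1, hk2⟩ := Groth.Agent.H4.QstE.cart_lift φ φ' g hg
        refine ⟨k, ⟨?_, hk2⟩, ?_⟩
        · subst hk1
          exact IsHomLift.map (AlgSt.QuotObj.forget K G aX) k
        · rintro k' ⟨hk', hk'2⟩
          refine Groth.Agent.H4.QstE.cart_uniq φ k' k ?_ (hk'2.trans hk2.symm)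
          rw [hk1]
          exact (IsHomLift.eq_of_isHomLift (AlgSt.QuotObj.forget K G aX) g k').symm }

end Groth.Agent.H3.QStk
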