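import Mathlib
import Groth.Prelude.Def_AlgSt5
import Groth.Agent.Lib.Helper3.StackDescent
import Groth.Agent.Lib.Helper3.QStk.FibGrpd
import Groth.Agent.Lib.Helper3.QStk.Colim

/-!
# Morphisms of `[X/G]` glue along covering sieves of a subcanonical topology (helper3)
-/

set_option autoImplicit false
set_option backward.isDefEq.respectTransparency false
set_option backward.isDefEq.respectTransparency.types false

universe u

open CategoryTheory CategoryTheory.Limits MonoidalCategory CartesianMonoidalCategory MonObj GrpObj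
  AlgebraicGeometry Opposite

namespace Groth.Agent.H3.QStk

open Groth.Agent.H3.StackDescent

lemma isPullback_conj {C : Type*} [Category C] {A B C₁ D₁ C₂ D₂ : C} {t : A ⟶ B} {p : A ⟶ C₁}
    {q : B ⟶ D₁} {g : C₂ ⟶ D₂} (e₁ : C₁ = C₂) (e₂ : D₁ = D₂)
    (h : IsPullback t p q (eqToHom e₁ ≫ g ≫ eqToHom e₂.symm)) :
    IsPullback t (p ≫ eqToHom e₁) (q ≫ eqToHom e₂) g := by
  subst e₁ e₂
  simpa using h

lemma isPullback_conj' {C : Type*} [Category C] {A B C₁ D₁ C₂ D₂ : C} {t : A ⟶ B} {p : A ⟶ C₁}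
    {q : B ⟶ D₁} {g : C₂ ⟶ D₂} (e₁ : C₁ = C₂) (e₂ : D₁ = D₂)
    (h : IsPullback t (p ≫ eqToHom e₁) (q ≫ eqToHom e₂) g) :
    IsPullback t p q (eqToHom e₁ ≫ g ≫ eqToHom e₂.symm) := by
  subst e₁ e₂
  simpa using h

variable {S : Scheme.{u}} {K : Precoverage Scheme.{u}} {G : Over S} [GrpObj G] {X : Over S}
  {aX : AlgGrp.Action G X} {U : Over S} {R : Sieve U}
  (D : Stk.sieveCat R ⥤ᵇ AlgSt.QuotSt K G aX)

/-- the base of `D a` is the source of `a` -/
lemma proj (a : R.arrows.category) : (D.obj a).base = a.obj.left := sieve_obj_proj D a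

lemma map_base {a b : R.arrows.category} (w : a ⟶ b) :
    (D.map w).base = eqToHom (proj D a) ≫ w.hom.left ≫ eqToHom (proj D b).symm := by
  have := sieve_map_isHomLift D w
  exact IsHomLift.fac' (AlgSt.QuotSt K G aX).p w.hom.left (D.map w)

/-- the structure map of `D a`, with values in the source of `a` -/
noncomputable def pa (a : R.arrows.category) : (D.obj a).P ⟶ a.obj.left :=
  (D.obj a).π ≫ eqToHom (proj D a)

lemma tr_cart {a b : R.arrows.category} (w : a ⟶ b) :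
    IsPullback (D.map w).top (pa D a) (pa D b) w.hom.left := by
  apply isPullback_conj
  rw [← map_base]
  exact (D.map w).cart

lemma ι_base (s : Cocone D) (a : R.arrows.category) :
    (s.ι a).base = eqToHom (proj D a) ≫ a.obj.hom ≫ eqToHom s.pt_proj.symm := by
  have := s.ι_lift a
  exact IsHomLift.fac' (AlgSt.QuotSt K G aX).p a.obj.hom (s.ι a)

/-- the cartesian cocone of schemes attached to a cocone of `[X/G]` -/
noncomputable def cdataOf (s : Cocone D) : CData R where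
  Pa a := (D.obj a).P
  pa a := pa D a
  tr w := (D.map w).top
  tr_pa w := (tr_cart D w).w
  P := s.pt.P
  π := s.pt.π ≫ eqToHom s.pt_proj
  top a := (s.ι a).top
  top_tr w := congrArg (fun m => m.top) (s.w w)
  cart a := by
    apply isPullback_conj
    rw [← ι_base]
    exact (s.ι a).cart

variable (J : GrothendieckTopology (Over S)) [J.Subcanonical]

/-- **Gluing of morphisms** of `[X/G]` along a covering sieve. -/
theorem exists_unique_hom (hR : R ∈ J U) (s t : Cocone D) :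
    ∃! φ : s.pt ⟶ t.pt, (AlgSt.QuotSt K G aX).p.IsHomLift (𝟙 U) φ ∧ ∀ a, s.ι a ≫ φ = t.ι a := by
  obtain ⟨φt, hφt, hφu⟩ := (cdataOf D s).exists_unique_desc₀ J hR t.pt.P (fun a => (t.ι a).top)
    (fun w => (cdataOf D t).top_tr w)
  obtain ⟨ψt, hψt, -⟩ := (cdataOf D t).exists_unique_desc₀ J hR s.pt.P (fun a => (s.ι a).top)
    (fun w => (cdataOf D s).top_tr w)
  have hφt' : ∀ a, (s.ι a).top ≫ φt = (t.ι a).top := hφt
  have hψt' : ∀ a, (t.ι a).top ≫ ψt = (s.ι a).top := hψt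
  have h1 : φt ≫ ψt = 𝟙 _ := by
    apply (cdataOf D s).hom_ext₀ J hR
    intro a
    change (s.ι a).top ≫ φt ≫ ψt = (s.ι a).top ≫ 𝟙 _
    rw [← Category.assoc, hφt', hψt', Category.comp_id]
  have h2 : ψt ≫ φt = 𝟙 _ := by
    apply (cdataOf D t).hom_ext₀ J hR
    intro a
    change (t.ι a).top ≫ ψt ≫ φt = (t.ι a).top ≫ 𝟙 _
    rw [← Category.assoc, hψt', hφt', Category.comp_id]
  have hiso : IsIso φt := ⟨ψt, h1, h2⟩
  have hπ : φt ≫ t.pt.π = s.pt.π ≫ eqToHom s.pt_proj ≫ eqToHom t.pt_proj.symm := by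
    apply (cdataOf D s).hom_ext₀ J hR
    intro a
    change (s.ι a).top ≫ φt ≫ t.pt.π = (s.ι a).top ≫ s.pt.π ≫ _
    rw [← Category.assoc, hφt', (t.ι a).cart.w, ← Category.assoc (s.ι a).top, (s.ι a).cart.w,
      ι_base D s, ι_base D t]
    simp
  have heqv : s.pt.act.act ≫ φt = (G ◁ φt) ≫ t.pt.act.act := by
    apply (cdataOf D s).hom_ext J hR
    intro a
    change (G ◁ (s.ι a).top) ≫ s.pt.act.act ≫ φt = (G ◁ (s.ι a).top) ≫ (G ◁ φt) ≫ t.pt.act.act
    rw [← Category.assoc, ← (s.ι a).eqv, Category.assoc, hφt', (t.ι a).eqv,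
      ← MonoidalCategory.whiskerLeft_comp_assoc, hφt']
  have hwφ : φt ≫ t.pt.φ = s.pt.φ := by
    apply (cdataOf D s).hom_ext₀ J hR
    intro a
    change (s.ι a).top ≫ φt ≫ t.pt.φ = (s.ι a).top ≫ s.pt.φ
    rw [← Category.assoc, hφt', (t.ι a).wφ, (s.ι a).wφ]
  have hisoe : IsIso (eqToHom s.pt_proj ≫ eqToHom t.pt_proj.symm :
      s.pt.base ⟶ t.pt.base) := inferInstance
  refine ⟨AlgSt.QuotObj.Hom.mk (eqToHom s.pt_proj ≫ eqToHom t.pt_proj.symm) φt heqv
    (IsPullback.of_horiz_isIso ⟨hπ⟩) hwφ, ⟨?_, ?_⟩, ?_⟩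
  · apply IsHomLift.of_fac' (AlgSt.QuotSt K G aX).p (𝟙 U) _ s.pt_proj t.pt_proj
    change eqToHom s.pt_proj ≫ eqToHom t.pt_proj.symm = _
    simp
  · intro a
    apply AlgSt.QuotObj.hom_ext
    · change (s.ι a).base ≫ eqToHom s.pt_proj ≫ eqToHom t.pt_proj.symm = (t.ι a).base
      rw [ι_base D s, ι_base D t]
      simp
    · exact hφt' a
  · rintro φ' ⟨hφ'1, hφ'2⟩
    apply AlgSt.QuotObj.hom_ext
    · change φ'.base = eqToHom s.pt_proj ≫ eqToHom t.pt_proj.symm
      have := IsHomLift.fac' (AlgSt.QuotSt K G aX).p (𝟙 U) φ'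
      change φ'.base = _ at this
      rw [this]
      simp
    · exact hφu φ'.top (fun a => congrArg (fun m => m.top) (hφ'2 a))

/-- `[X/G]` is a prestack for any subcanonical topology. -/
theorem isPrestackFor [K.IsStableUnderBaseChange] (hR : R ∈ J U) :
    Stk.IsPrestackFor R (AlgSt.QuotSt K G aX) :=
  (isPrestackFor_iff isFibGrpd).mpr (fun D s t => exists_unique_hom D J hR s t)

end Groth.Agent.H3.QStk
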