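import Mathlib
import Groth.Prelude.Def_AlgSt5
import Groth.Prelude.Def_DescFam
import Groth.Agent.Lib.Helper3.QStk.Prestack
import Groth.Agent.Lib.Helper3.DescSh.Affine
import Groth.Agent.Lib.Helper3.TorsAff

/-!
# The descent datum of schemes attached to a descent datum of `[X/G]` (helper3)
-/

set_option autoImplicit false
set_option backward.isDefEq.respectTransparency false
set_option backward.isDefEq.respectTransparency.types false

universe u

open CategoryTheory CategoryTheory.Limits MonoidalCategory CartesianMonoidalCategory MonObj GrpObj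
  AlgebraicGeometry Opposite

namespace Groth.Agent.H3.QStk

open Groth.Agent.H3.StackDescent Desc

variable {S : Scheme.{u}} {K : Precoverage Scheme.{u}} {G : Over S} [GrpObj G] {X : Over S}
  {aX : AlgGrp.Action G X}

/-- A property of morphisms which is fpqc local on the target and stable under base change
passes from `G ⟶ S` to the structure morphism of a torsor. -/
theorem prop_π (P : MorphismProperty Scheme.{u}) [P.IsStableUnderBaseChange]
    [P.IsLocalAtTarget Scheme.fpqcPrecoverage] (hK : K ≤ Scheme.fpqcPrecoverage)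
    (A : AlgSt.QuotObj K G aX) (hG : P G.hom) : P A.π.left := by
  obtain ⟨R₀, hR₀, hsec⟩ := A.loc
  refine MorphismProperty.IsLocalAtTarget.of_forall_pullbackSnd (P := P) (hK _ hR₀) ?_
  intro S' f _ hf
  obtain ⟨σ, hσ⟩ := hsec f hf
  have hσ' : σ ≫ A.π.left = f := hσ
  have hσw : σ ≫ A.P.hom = f ≫ A.base.hom := by
    rw [← Over.w A.π, ← Category.assoc, hσ']
  let σO : Over.mk (f ≫ A.base.hom) ⟶ A.P := Over.homMk σ hσw
  have hσO : σO ≫ A.π = (Over.homMk f rfl : Over.mk (f ≫ A.base.hom) ⟶ A.base) :=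
    Over.OverMorphism.ext hσ'
  have H1 : IsPullback (G ◁ σO) (snd G (Over.mk (f ≫ A.base.hom))) (snd G A.P) σO :=
    AlgSt.isPullback_whiskerLeft (G := G) σO
  have H := H1.paste_horiz A.cart
  rw [hσO] at H
  have HL : IsPullback ((G ◁ σO) ≫ A.act.act).left (snd G (Over.mk (f ≫ A.base.hom))).left
      A.π.left f := IsPullback.map (Over.forget S) H
  have hsnd : P (snd G (Over.mk (f ≫ A.base.hom))).left := by
    have h2 : IsPullback (fst G (Over.mk (f ≫ A.base.hom))).left
        (snd G (Over.mk (f ≫ A.base.hom))).left G.hom (f ≫ A.base.hom) := by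
      have := IsPullback.map (Over.forget S)
        (AlgSt.isPullback_fst_snd G (Over.mk (f ≫ A.base.hom)))
      simpa [Groth.Agent.H4.QstE.toUnit_left] using this
    exact P.of_isPullback h2 hG
  have e : pullback.snd A.π.left f =
      HL.isoPullback.inv ≫ (snd G (Over.mk (f ≫ A.base.hom))).left := by
    rw [Iso.eq_inv_comp, HL.isoPullback_hom_snd]
  rw [e]
  exact (P.cancel_left_of_respectsIso _ _).2 hsnd

variable {U : Over S} {R : Sieve U} (D : Stk.sieveCat R ⥤ᵇ AlgSt.QuotSt K G aX)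

/-- total spaces as schemes -/
abbrev PaL (a : R.arrows.category) : Scheme.{u} := (D.obj a).P.left

/-- structure maps as morphisms of schemes -/
noncomputable abbrev paL (a : R.arrows.category) : PaL D a ⟶ a.obj.left.left := (pa D a).left

/-- transition maps as morphisms of schemes -/
abbrev trL {a b : R.arrows.category} (w : a ⟶ b) : PaL D a ⟶ PaL D b := (D.map w).top.left

lemma trL_cart {a b : R.arrows.category} (w : a ⟶ b) :
    IsPullback (trL D w) (paL D a) (paL D b) w.hom.left.left :=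
  IsPullback.map (Over.forget S) (tr_cart D w)

lemma trL_comp {a b c : R.arrows.category} (w : a ⟶ b) (w' : b ⟶ c) :
    trL D (w ≫ w') = trL D w ≫ trL D w' := by
  unfold trL
  rw [D.toFunctor.map_comp]
  rfl

lemma prop_paL (P : MorphismProperty Scheme.{u}) [P.IsStableUnderBaseChange]
    [P.IsLocalAtTarget Scheme.fpqcPrecoverage] (hK : K ≤ Scheme.fpqcPrecoverage)
    (hG : P G.hom) (a : R.arrows.category) : P (paL D a) := by
  have h := prop_π P hK (D.obj a) hG
  have hi : IsIso (eqToHom (proj D a)).left :=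
    inferInstanceAs (IsIso ((Over.forget S).map (eqToHom (proj D a))))
  change P ((D.obj a).π.left ≫ (eqToHom (proj D a)).left)
  exact (P.cancel_right_of_respectsIso _ _).2 h

/-- points of `D a` over `x` correspond to points of `D b` over the image of `x` -/
noncomputable def liftEquiv {a b : R.arrows.category} (w : a ⟶ b) {W : Scheme.{u}}
    (x : W ⟶ a.obj.left.left) (y : W ⟶ b.obj.left.left) (hxy : x ≫ w.hom.left.left = y) :
    {v : W ⟶ PaL D a // v ≫ paL D a = x} ≃ {v : W ⟶ PaL D b // v ≫ paL D b = y} where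
  toFun v := ⟨v.1 ≫ trL D w, by
    rw [Category.assoc, (trL_cart D w).w, ← Category.assoc, v.2, hxy]⟩
  invFun v := ⟨(trL_cart D w).lift v.1 x (by rw [v.2, hxy]), (trL_cart D w).lift_snd _ _ _⟩
  left_inv v := Subtype.ext ((trL_cart D w).hom_ext (by simp) (by simp [v.2]))
  right_inv v := Subtype.ext ((trL_cart D w).lift_fst _ _ _)

section Family

variable {I : Type u} {T : I → Scheme.{u}} (u : ∀ i, T i ⟶ U.left)

/-- the members of the family as schemes over `S` -/
abbrev TO (i : I) : Over S := Over.mk (u i ≫ U.hom)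

/-- the members of the family as morphisms over `S` -/
abbrev uO (i : I) : TO u i ⟶ U := Over.homMk (u i) rfl

variable (hu : ∀ i, R (uO u i))

/-- the members of the family as objects of the sieve category -/
abbrev ai (i : I) : R.arrows.category := mkObj R (uO u i) (hu i)

/-- a point of a member of the family, over `S` -/
abbrev xO {T' : Scheme.{u}} {i : I} (x : T' ⟶ T i) : Over.mk (x ≫ u i ≫ U.hom) ⟶ TO u i :=
  Over.homMk x rfl

/-- the object of the sieve category of a point of a member of the family -/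
abbrev ax {T' : Scheme.{u}} {i : I} (x : T' ⟶ T i) : R.arrows.category :=
  mkObj R (xO u x ≫ uO u i) (R.downward_closed (hu i) _)

/-- a second point with the same image gives a morphism to the second member -/
def mx {T' : Scheme.{u}} {i j : I} (x₀ : T' ⟶ T i) (x₁ : T' ⟶ T j)
    (h : x₀ ≫ u i = x₁ ≫ u j) : ax u hu x₀ ⟶ ai u hu j :=
  ObjectProperty.homMk (Over.homMk (Over.homMk x₁ (by
    change x₁ ≫ u j ≫ U.hom = x₀ ≫ u i ≫ U.hom
    rw [← Category.assoc, ← h, Category.assoc])) (by
    apply Over.OverMorphism.ext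
    exact h.symm))

@[simp] lemma mx_left {T' : Scheme.{u}} {i j : I} (x₀ : T' ⟶ T i) (x₁ : T' ⟶ T j)
    (h : x₀ ≫ u i = x₁ ≫ u j) : (mx u hu x₀ x₁ h).hom.left.left = x₁ := rfl

/-- the gluing bijections -/
noncomputable def ddφ {T' : Scheme.{u}} {i j : I} (x₀ : T' ⟶ T i) (x₁ : T' ⟶ T j)
    (h : x₀ ≫ u i = x₁ ≫ u j) :
    {v : T' ⟶ PaL D (ai u hu i) // v ≫ paL D (ai u hu i) = x₀} ≃
      {v : T' ⟶ PaL D (ai u hu j) // v ≫ paL D (ai u hu j) = x₁} :=
  (liftEquiv D (mx u hu x₀ x₀ rfl) (𝟙 T') x₀ (Category.id_comp _)).symm.trans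
    (liftEquiv D (mx u hu x₀ x₁ h) (𝟙 T') x₁ (Category.id_comp _))

/-- **Characterisation of the gluing bijections** through any object of the sieve mapping to
both members. -/
lemma ddφ_char {T' : Scheme.{u}} {i j : I} (x₀ : T' ⟶ T i) (x₁ : T' ⟶ T j)
    (h : x₀ ≫ u i = x₁ ≫ u j) (v : {v : T' ⟶ PaL D (ai u hu i) // v ≫ paL D (ai u hu i) = x₀})
    (a : R.arrows.category) (m₀ : a ⟶ ai u hu i) (m₁ : a ⟶ ai u hu j)
    (r : T' ⟶ a.obj.left.left) (hr₀ : r ≫ m₀.hom.left.left = x₀) (hr₁ : r ≫ m₁.hom.left.left = x₁)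
    (σ : T' ⟶ PaL D a) (hσ : σ ≫ paL D a = r) (hσv : σ ≫ trL D m₀ = v.1) :
    (ddφ D u hu x₀ x₁ h v).1 = σ ≫ trL D m₁ := by
  have hw1 : r ≫ a.obj.left.hom = x₀ ≫ u i ≫ U.hom := by
    have e1 : m₀.hom.left.left ≫ (u i ≫ U.hom) = a.obj.left.hom := Over.w m₀.hom.left
    rw [← e1, ← Category.assoc, hr₀]
  have hw2 : (Over.homMk r hw1 : Over.mk (x₀ ≫ u i ≫ U.hom) ⟶ a.obj.left) ≫ a.obj.hom =
      xO u x₀ ≫ uO u i := by
    apply Over.OverMorphism.ext
    have e2 : m₀.hom.left ≫ uO u i = a.obj.hom := Over.w m₀.hom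
    have e3 : m₀.hom.left.left ≫ u i = a.obj.hom.left := congrArg (fun m => m.left) e2
    change r ≫ a.obj.hom.left = x₀ ≫ u i
    rw [← e3, ← Category.assoc, hr₀]
  let n : ax u hu x₀ ⟶ a := ObjectProperty.homMk (Over.homMk (Over.homMk r hw1) hw2)
  have hn0 : n ≫ m₀ = mx u hu x₀ x₀ rfl := by
    apply ObjectProperty.hom_ext
    apply Over.OverMorphism.ext
    apply Over.OverMorphism.ext
    exact hr₀
  have hn1 : n ≫ m₁ = mx u hu x₀ x₁ h := by
    apply ObjectProperty.hom_ext
    apply Over.OverMorphism.ext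
    apply Over.OverMorphism.ext
    exact hr₁
  have hnl : n.hom.left.left = r := rfl
  have hs := ((liftEquiv D (mx u hu x₀ x₀ rfl) (𝟙 T') x₀ (Category.id_comp _)).symm v).2
  have hs1 : ((liftEquiv D (mx u hu x₀ x₀ rfl) (𝟙 T') x₀ (Category.id_comp _)).symm v).1 ≫
      trL D (mx u hu x₀ x₀ rfl) = v.1 :=
    congrArg Subtype.val ((liftEquiv D (mx u hu x₀ x₀ rfl) (𝟙 T') x₀
      (Category.id_comp _)).apply_symm_apply v)
  have key : ((liftEquiv D (mx u hu x₀ x₀ rfl) (𝟙 T') x₀ (Category.id_comp _)).symm v).1 ≫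
      trL D n = σ := by
    apply (trL_cart D m₀).hom_ext
    · rw [Category.assoc, ← trL_comp, hn0, hs1, hσv]
    · rw [Category.assoc, (trL_cart D n).w, ← Category.assoc, hs, Category.id_comp, hnl, hσ]
  change ((liftEquiv D (mx u hu x₀ x₀ rfl) (𝟙 T') x₀ (Category.id_comp _)).symm v).1 ≫
      trL D (mx u hu x₀ x₁ h) = _
  rw [← hn1, trL_comp, ← Category.assoc, key]

/-- the descent datum of schemes relative to the family -/
noncomputable def dd : SchDDFam u where
  obj i := Over.mk (paL D (ai u hu i))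
  φ T' i j x₀ x₁ h := ddφ D u hu x₀ x₁ h
  φ_natural := by
    intro T' T'' g i j x₀ x₁ h y₀ y₁ hy₀ hy₁ h' v v' hv
    subst hy₀ hy₁
    have hs := ((liftEquiv D (mx u hu x₀ x₀ rfl) (𝟙 T') x₀ (Category.id_comp _)).symm v).2
    have hs1 : ((liftEquiv D (mx u hu x₀ x₀ rfl) (𝟙 T') x₀ (Category.id_comp _)).symm v).1 ≫
        trL D (mx u hu x₀ x₀ rfl) = v.1 :=
      congrArg Subtype.val ((liftEquiv D (mx u hu x₀ x₀ rfl) (𝟙 T') x₀
        (Category.id_comp _)).apply_symm_apply v)
    have := ddφ_char D u hu (g ≫ x₀) (g ≫ x₁) h' v' (ax u hu x₀) (mx u hu x₀ x₀ rfl)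
      (mx u hu x₀ x₁ h) g rfl rfl
      (g ≫ ((liftEquiv D (mx u hu x₀ x₀ rfl) (𝟙 T') x₀ (Category.id_comp _)).symm v).1)
      (by rw [Category.assoc, hs, Category.comp_id])
      (by rw [Category.assoc, hs1]; exact hv.symm)
    exact this.trans (Category.assoc _ _ _)
  φ_self := by
    intro T' i x v
    exact (liftEquiv D (mx u hu x x rfl) (𝟙 T') x (Category.id_comp _)).apply_symm_apply v
  φ_comp := by
    intro T' i j k x₀ x₁ x₂ h₀₁ h₁₂ v
    apply Subtype.ext
    have hs := ((liftEquiv D (mx u hu x₀ x₀ rfl) (𝟙 T') x₀ (Category.id_comp _)).symm v).2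
    have := ddφ_char D u hu x₁ x₂ h₁₂ (ddφ D u hu x₀ x₁ h₀₁ v) (ax u hu x₀) (mx u hu x₀ x₁ h₀₁)
      (mx u hu x₀ x₂ (h₀₁.trans h₁₂)) (𝟙 T') (Category.id_comp _) (Category.id_comp _)
      ((liftEquiv D (mx u hu x₀ x₀ rfl) (𝟙 T') x₀ (Category.id_comp _)).symm v).1 hs rfl
    exact this

/-- the descent datum is effective when `G` is affine -/
theorem dd_isEffective (hK : K ≤ Scheme.fpqcPrecoverage) [IsAffineHom G.hom]
    (hcov : Presieve.ofArrows T u ∈ Scheme.fpqcPrecoverage U.left) : (dd D u hu).IsEffective := by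
  refine Groth.Agent.H3.DescSh.isEffective_of_fpqc_of_affine @IsAffineHom
    (Groth.Agent.H3.DescSh.prop_sigmaMap_fin_of_isZariskiLocalAtTarget @IsAffineHom)
    (fun X' S' p' hX' hS' hfl hsurj D' hD' => by
      have : IsAffine X' := hX'
      have : IsAffine S' := hS'
      have : Flat p' := hfl
      have : Surjective p' := hsurj
      exact Groth.Agent.H3.DescSh.effective_of_isAffineHom p' D' hD')
    u hcov (dd D u hu) (fun i => ?_)
  exact prop_paL D @IsAffineHom hK inferInstance (ai u hu i)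

end Family

end Groth.Agent.H3.QStk
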