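import Mathlib
import Groth.Prelude.Def_AlgSt5
import Groth.Agent.Lib.Helper3.QStk.Colim

/-!
# The torsor condition descends along a cartesian cocone (helper3)
-/

set_option autoImplicit false
set_option backward.isDefEq.respectTransparency false
set_option backward.isDefEq.respectTransparency.types false

universe u

open CategoryTheory CategoryTheory.Limits MonoidalCategory CartesianMonoidalCategory
  AlgebraicGeometry Opposite

namespace Groth.Agent.H3.QStk

open Groth.Agent.H3.StackDescent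

variable {S : Scheme.{u}} {U : Over S} {R : Sieve U}

namespace CData

variable (d : CData R)

lemma sec_comp {W W' : Over S} (k : W' ⟶ W) (q : W ⟶ d.P) (hq : R (q ≫ d.π))
    (q₂ : W' ⟶ d.P) (e : k ≫ q = q₂) (hq₂ : R (q₂ ≫ d.π)) :
    d.sec q₂ hq₂ ≫ d.tr (mkHomTo (mkObj R (q ≫ d.π) hq) k _ hq₂
      (by rw [← e, Category.assoc]; rfl)) = k ≫ d.sec q hq := by
  subst e
  apply d.tr_sec
  · rw [d.sec_top, Category.assoc, d.sec_top]
  · rw [mkHomTo_left, ← Category.assoc, d.sec_pa, Category.id_comp, Category.assoc, d.sec_pa,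
      Category.comp_id]

/-- the section through a second point with the same image -/
noncomputable def sec' {W : Over S} (q' q : W ⟶ d.P) (hq : R (q ≫ d.π))
    (h : q' ≫ d.π = q ≫ d.π) : W ⟶ d.Pa (mkObj R (q ≫ d.π) hq) :=
  (d.cart (mkObj R (q ≫ d.π) hq)).lift q' (𝟙 W) (by rw [Category.id_comp, h]; rfl)

lemma sec'_top {W : Over S} (q' q : W ⟶ d.P) (hq : R (q ≫ d.π)) (h : q' ≫ d.π = q ≫ d.π) :
    d.sec' q' q hq h ≫ d.top (mkObj R (q ≫ d.π) hq) = q' :=
  IsPullback.lift_fst _ _ _ _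

lemma sec'_pa {W : Over S} (q' q : W ⟶ d.P) (hq : R (q ≫ d.π)) (h : q' ≫ d.π = q ≫ d.π) :
    d.sec' q' q hq h ≫ d.pa (mkObj R (q ≫ d.π) hq) = 𝟙 W :=
  IsPullback.lift_snd _ _ _ _

lemma sec'_comp {W W' : Over S} (k : W' ⟶ W) (q' q : W ⟶ d.P) (hq : R (q ≫ d.π))
    (h : q' ≫ d.π = q ≫ d.π) (q₂' q₂ : W' ⟶ d.P) (e' : k ≫ q' = q₂') (e : k ≫ q = q₂)
    (hq₂ : R (q₂ ≫ d.π)) (h₂ : q₂' ≫ d.π = q₂ ≫ d.π) :
    d.sec' q₂' q₂ hq₂ h₂ ≫ d.tr (mkHomTo (mkObj R (q ≫ d.π) hq) k _ hq₂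
      (by rw [← e, Category.assoc]; rfl)) = k ≫ d.sec' q' q hq h := by
  subst e e'
  apply d.tr_sec
  · rw [d.sec'_top, Category.assoc, d.sec'_top]
  · rw [mkHomTo_left, ← Category.assoc, d.sec'_pa, Category.id_comp, Category.assoc, d.sec'_pa,
      Category.comp_id]

end CData

/-- compatible actions of `G` on the members of a cartesian cocone, making them torsors -/
structure TData (d : CData R) (G : Over S) where
  act : ∀ a, G ⊗ d.Pa a ⟶ d.Pa a
  act_tr : ∀ {a b : R.arrows.category} (w : a ⟶ b), (G ◁ d.tr w) ≫ act b = act a ≫ d.tr w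
  tors : ∀ a, IsPullback (act a) (snd G (d.Pa a)) (d.pa a) (d.pa a)

namespace TData

variable {d : CData R} {G : Over S} (t : TData d G)

/-- division in a torsor -/
noncomputable def dv (a : R.arrows.category) {W : Over S} (σ' σ : W ⟶ d.Pa a)
    (h : σ' ≫ d.pa a = σ ≫ d.pa a) : W ⟶ G :=
  (t.tors a).lift σ' σ h ≫ fst G (d.Pa a)

lemma dv_spec (a : R.arrows.category) {W : Over S} (σ' σ : W ⟶ d.Pa a)
    (h : σ' ≫ d.pa a = σ ≫ d.pa a) : lift (t.dv a σ' σ h) σ ≫ t.act a = σ' := by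
  have e : lift (t.dv a σ' σ h) σ = (t.tors a).lift σ' σ h := by
    apply CartesianMonoidalCategory.hom_ext
    · rw [lift_fst]; rfl
    · rw [lift_snd, (t.tors a).lift_snd]
  rw [e, (t.tors a).lift_fst]

lemma dv_unique (a : R.arrows.category) {W : Over S} (σ' σ : W ⟶ d.Pa a)
    (h : σ' ≫ d.pa a = σ ≫ d.pa a) (g : W ⟶ G) (hg : lift g σ ≫ t.act a = σ') :
    g = t.dv a σ' σ h := by
  have e : lift g σ = (t.tors a).lift σ' σ h := by
    apply (t.tors a).hom_ext
    · rw [hg, (t.tors a).lift_fst]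
    · rw [lift_snd, (t.tors a).lift_snd]
  unfold dv
  rw [← e, lift_fst]

lemma dv_congr (a : R.arrows.category) {W : Over S} {σ₁' σ₁ σ₂' σ₂ : W ⟶ d.Pa a}
    (h₁ : σ₁' ≫ d.pa a = σ₁ ≫ d.pa a) (h₂ : σ₂' ≫ d.pa a = σ₂ ≫ d.pa a)
    (e' : σ₁' = σ₂') (e : σ₁ = σ₂) : t.dv a σ₁' σ₁ h₁ = t.dv a σ₂' σ₂ h₂ := by
  subst e' e
  rfl

lemma dv_comp (a : R.arrows.category) {W W' : Over S} (k : W' ⟶ W) (σ' σ : W ⟶ d.Pa a)
    (h : σ' ≫ d.pa a = σ ≫ d.pa a) :
    k ≫ t.dv a σ' σ h = t.dv a (k ≫ σ') (k ≫ σ)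
      (by rw [Category.assoc, Category.assoc, h]) := by
  apply t.dv_unique
  rw [← comp_lift, Category.assoc, t.dv_spec]

lemma dv_tr {a b : R.arrows.category} (w : a ⟶ b) {W : Over S} (σ' σ : W ⟶ d.Pa a)
    (h : σ' ≫ d.pa a = σ ≫ d.pa a) :
    t.dv b (σ' ≫ d.tr w) (σ ≫ d.tr w)
      (by rw [Category.assoc, Category.assoc, d.tr_pa, ← Category.assoc, ← Category.assoc, h]) =
      t.dv a σ' σ h := by
  symm
  apply t.dv_unique
  have e : lift (t.dv a σ' σ h) (σ ≫ d.tr w) = lift (t.dv a σ' σ h) σ ≫ (G ◁ d.tr w) := by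
    rw [lift_whiskerLeft]
  rw [e, Category.assoc, t.act_tr, ← Category.assoc, t.dv_spec]

variable (J : GrothendieckTopology (Over S)) [J.Subcanonical]

/-- **The descended action makes the descended scheme a pseudo-torsor.** -/
theorem isPullback (hR : R ∈ J U) (actP : G ⊗ d.P ⟶ d.P)
    (hact : ∀ a, (G ◁ d.top a) ≫ actP = t.act a ≫ d.top a) :
    IsPullback actP (snd G d.P) d.π d.π := by
  have hinv : actP ≫ d.π = snd G d.P ≫ d.π := by
    apply d.hom_ext J hR
    intro a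
    rw [← Category.assoc, hact, Category.assoc, (d.cart a).w, ← Category.assoc, (t.tors a).w,
      Category.assoc, ← (d.cart a).w, whiskerLeft_snd_assoc]
  have hdiv : ∀ {W : Over S} (p' p : W ⟶ d.P), p' ≫ d.π = p ≫ d.π →
      ∃! g : W ⟶ G, lift g p ≫ actP = p' := by
    intro W p' p hp
    have hcov : R.pullback (p ≫ d.π) ∈ J W := J.pullback_stable _ hR
    have hshG : Presieve.IsSheafFor (yoneda.obj G) (R.pullback (p ≫ d.π)).arrows :=
      (GrothendieckTopology.Subcanonical.isSheaf_of_isRepresentable (J := J) (yoneda.obj G)) _ hcov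
    have hshP : Presieve.IsSheafFor (yoneda.obj d.P) (R.pullback (p ≫ d.π)).arrows :=
      (GrothendieckTopology.Subcanonical.isSheaf_of_isRepresentable (J := J) (yoneda.obj d.P)) _
        hcov
    have hmem : ∀ {W' : Over S} (f : W' ⟶ W), R.pullback (p ≫ d.π) f → R ((f ≫ p) ≫ d.π) :=
      fun f hf => by rw [Category.assoc]; exact hf
    have hpp : ∀ {W' : Over S} (f : W' ⟶ W), (f ≫ p') ≫ d.π = (f ≫ p) ≫ d.π := fun f => by
      rw [Category.assoc, Category.assoc, hp]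
    let x : Presieve.FamilyOfElements (yoneda.obj G) (R.pullback (p ≫ d.π)).arrows :=
      fun W' f hf => t.dv _ (d.sec' (f ≫ p') (f ≫ p) (hmem f hf) (hpp f))
        (d.sec (f ≫ p) (hmem f hf)) (by rw [d.sec'_pa, d.sec_pa])
    have hx : x.SieveCompatible := by
      intro W' W'' f k hf
      change t.dv _ (d.sec' ((k ≫ f) ≫ p') ((k ≫ f) ≫ p) _ _) (d.sec ((k ≫ f) ≫ p) _) _ =
        k ≫ t.dv _ (d.sec' (f ≫ p') (f ≫ p) _ _) (d.sec (f ≫ p) _) _
      have hkf : R.pullback (p ≫ d.π) (k ≫ f) := (R.pullback (p ≫ d.π)).downward_closed hf k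
      have e1 := d.sec_comp k (f ≫ p) (hmem f hf) ((k ≫ f) ≫ p) (Category.assoc _ _ _).symm
        (hmem (k ≫ f) hkf)
      have e2 := d.sec'_comp k (f ≫ p') (f ≫ p) (hmem f hf) (hpp f) ((k ≫ f) ≫ p')
        ((k ≫ f) ≫ p) (Category.assoc _ _ _).symm (Category.assoc _ _ _).symm
        (hmem (k ≫ f) hkf) (hpp (k ≫ f))
      rw [t.dv_comp]
      exact (t.dv_tr _ _ _ _).symm.trans (t.dv_congr _ _ _ e2 e1)
    have hxc := (Presieve.compatible_iff_sieveCompatible x).mpr hx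
    have hval : ∀ {W' : Over S} (f : W' ⟶ W) (hf : R.pullback (p ≫ d.π) f),
        f ≫ hshG.amalgamate x hxc = t.dv _ (d.sec' (f ≫ p') (f ≫ p) (hmem f hf) (hpp f))
        (d.sec (f ≫ p) (hmem f hf)) (by rw [d.sec'_pa, d.sec_pa]) :=
      fun f hf => hshG.valid_glue hxc f hf
    refine ⟨hshG.amalgamate x hxc, ?_, ?_⟩
    · apply hshP.isSeparatedFor.ext
      intro W' f hf
      change f ≫ lift (hshG.amalgamate x hxc) p ≫ actP = f ≫ p'
      rw [← Category.assoc, comp_lift, hval f hf]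
      have e3 : ∀ (g : W' ⟶ G), lift g (f ≫ p) =
          lift g (d.sec (f ≫ p) (hmem f hf)) ≫ (G ◁ d.top _) := fun g => by
        rw [lift_whiskerLeft, d.sec_top]
      rw [e3, Category.assoc, hact, ← Category.assoc, t.dv_spec, d.sec'_top]
    · intro g₂ hg₂
      apply hshG.isSeparatedFor.ext
      intro W' f hf
      change f ≫ g₂ = f ≫ hshG.amalgamate x hxc
      rw [hval f hf]
      apply t.dv_unique
      apply (d.cart _).hom_ext
      · rw [Category.assoc, ← hact, ← Category.assoc, lift_whiskerLeft, d.sec_top, d.sec'_top,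
          ← comp_lift, Category.assoc, hg₂]
      · have hw := (t.tors (mkObj R ((f ≫ p) ≫ d.π) (hmem f hf))).w
        rw [Category.assoc (lift _ _) (t.act _) (d.pa _), hw, lift_snd_assoc, d.sec_pa,
          d.sec'_pa]
  refine ⟨⟨hinv⟩, ⟨PullbackCone.IsLimit.mk hinv
    (fun s => lift (hdiv s.fst s.snd s.condition).exists.choose s.snd)
    (fun s => (hdiv s.fst s.snd s.condition).exists.choose_spec)
    (fun s => lift_snd _ _) (fun s m h1 h2 => ?_)⟩⟩
  have hm : m = lift (m ≫ fst G d.P) s.snd := by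
    apply CartesianMonoidalCategory.hom_ext
    · rw [lift_fst]
    · rw [lift_snd, h2]
  have hg : m ≫ fst G d.P = (hdiv s.fst s.snd s.condition).exists.choose :=
    (hdiv s.fst s.snd s.condition).unique (by rw [← hm]; exact h1)
      (hdiv s.fst s.snd s.condition).exists.choose_spec
  rw [hm, hg]

end TData

end Groth.Agent.H3.QStk
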