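import Mathlib
import Groth.Prelude.Def_AlgSt5
import Groth.Prelude.Def_DescFam
import Groth.Agent.Lib.Helper3.QStk.DD
import Groth.Agent.Lib.Helper3.QStk.Tors

/-!
# Effectivity of descent data of `[X/G]` for affine `G` (helper3)
-/

set_option autoImplicit false
set_option backward.isDefEq.respectTransparency false
set_option backward.isDefEq.respectTransparency.types false

universe u

open CategoryTheory CategoryTheory.Limits MonoidalCategory CartesianMonoidalCategory MonObj GrpObj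
  AlgebraicGeometry Opposite

namespace Groth.Agent.H3.QStk

open Groth.Agent.H3.StackDescent Desc

variable {S : Scheme.{u}} {K : Precoverage Scheme.{u}} {G : Over S} [GrpObj G] {X : Over S}
  {aX : AlgGrp.Action G X}

lemma cart_pa (A : AlgSt.QuotObj K G aX) {V : Over S} (hb : A.base = V) :
    IsPullback A.act.act (snd G A.P) (A.π ≫ eqToHom hb) (A.π ≫ eqToHom hb) := by
  subst hb
  simpa using A.cart

lemma loc_transport (A : AlgSt.QuotObj K G aX) {V : Over S} (hb : A.base = V) :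
    ∃ R' ∈ K V.left, ∀ ⦃S' : Scheme.{u}⦄ (g : S' ⟶ V.left), R' g →
      ∃ s : S' ⟶ A.P.left, s ≫ (A.π ≫ eqToHom hb).left = g := by
  subst hb
  obtain ⟨R', hR', hs⟩ := A.loc
  refine ⟨R', hR', fun S' g hg => ?_⟩
  obtain ⟨s, hs'⟩ := hs g hg
  exact ⟨s, by simpa using hs'⟩

lemma isPullback_conj'' {C : Type*} [Category C] {A B C₁ D₁ C₂ : C} {t : A ⟶ B} {p : A ⟶ C₁}
    {q : B ⟶ D₁} {g : C₂ ⟶ D₁} (e₁ : C₁ = C₂)
    (h : IsPullback t (p ≫ eqToHom e₁) q g) : IsPullback t p q (eqToHom e₁ ≫ g) := by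
  subst e₁
  simpa using h

variable {U : Over S} {R : Sieve U} (D : Stk.sieveCat R ⥤ᵇ AlgSt.QuotSt K G aX)
  {I : Type u} {T : I → Scheme.{u}} (u : ∀ i, T i ⟶ U.left) (hu : ∀ i, R (uO u i))
  (Y : Over U.left) (E : (toDDFam u).obj Y ≅ dd D u hu)

/-- the comparison isomorphisms -/
noncomputable def isoL (i : I) : pullback (u i) Y.hom ≅ PaL D (ai u hu i) where
  hom := (E.hom.hom i).left
  inv := (E.inv.hom i).left
  hom_inv_id := by
    have h : E.hom.hom i ≫ E.inv.hom i = 𝟙 _ := by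
      rw [← SchDDFam.comp_hom, E.hom_inv_id, SchDDFam.id_hom]
    exact congrArg (fun m => m.left) h
  inv_hom_id := by
    have h : E.inv.hom i ≫ E.hom.hom i = 𝟙 _ := by
      rw [← SchDDFam.comp_hom, E.inv_hom_id, SchDDFam.id_hom]
    exact congrArg (fun m => m.left) h

/-- the legs of the members of the family, as morphisms of schemes -/
noncomputable def topL (i : I) : PaL D (ai u hu i) ⟶ Y.left :=
  (isoL D u hu Y E i).inv ≫ pullback.snd (u i) Y.hom

lemma topL_cart (i : I) : IsPullback (topL D u hu Y E i) (paL D (ai u hu i)) Y.hom (u i) := by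
  have h0 := (IsPullback.of_hasPullback (u i) Y.hom).flip
  refine IsPullback.of_iso h0 (isoL D u hu Y E i) (Iso.refl _) (Iso.refl _) (Iso.refl _) ?_ ?_
    (by simp) (by simp)
  · simp [topL]
  · have h := Over.w (E.hom.hom i)
    change (E.hom.hom i).left ≫ paL D (ai u hu i) = pullback.fst (u i) Y.hom at h
    change pullback.fst (u i) Y.hom ≫ 𝟙 _ = (E.hom.hom i).left ≫ paL D (ai u hu i)
    rw [h, Category.comp_id]

lemma topL_φ {T' : Scheme.{u}} {i j : I} (x₀ : T' ⟶ T i) (x₁ : T' ⟶ T j)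
    (h : x₀ ≫ u i = x₁ ≫ u j) (v : Lifts ((dd D u hu).obj i) x₀) :
    ((dd D u hu).φ x₀ x₁ h v).1 ≫ topL D u hu Y E j = v.1 ≫ topL D u hu Y E i := by
  have hw : (v.1 ≫ (E.inv.hom i).left) ≫ pullback.fst (u i) Y.hom = x₀ := by
    have h1 := Over.w (E.inv.hom i)
    change (E.inv.hom i).left ≫ pullback.fst (u i) Y.hom = paL D (ai u hu i) at h1
    rw [Category.assoc, h1]
    exact v.2
  have hc := E.inv.comm x₀ x₁ h v ⟨v.1 ≫ (E.inv.hom i).left, hw⟩ rfl
  change (canMapFam u Y x₀ x₁ h ⟨v.1 ≫ (E.inv.hom i).left, hw⟩).1 =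
    ((dd D u hu).φ x₀ x₁ h v).1 ≫ (E.inv.hom j).left at hc
  change ((dd D u hu).φ x₀ x₁ h v).1 ≫ (E.inv.hom j).left ≫ pullback.snd (u j) Y.hom =
    v.1 ≫ (E.inv.hom i).left ≫ pullback.snd (u i) Y.hom
  rw [← Category.assoc, ← hc, canMapFam_val, pullback.lift_snd, Category.assoc]

lemma leg_indep (a : R.arrows.category) {i j : I} (m : a ⟶ ai u hu i) (m' : a ⟶ ai u hu j) :
    trL D m ≫ topL D u hu Y E i = trL D m' ≫ topL D u hu Y E j := by
  have e1 : m.hom.left.left ≫ u i = a.obj.hom.left := congrArg (fun k => k.left) (Over.w m.hom)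
  have e2 : m'.hom.left.left ≫ u j = a.obj.hom.left := congrArg (fun k => k.left) (Over.w m'.hom)
  have hx : (paL D a ≫ m.hom.left.left) ≫ u i = (paL D a ≫ m'.hom.left.left) ≫ u j := by
    rw [Category.assoc, Category.assoc, e1, e2]
  have h1 := ddφ_char D u hu _ _ hx ⟨trL D m, (trL_cart D m).w⟩ a m m' (paL D a) rfl rfl (𝟙 _)
    (Category.id_comp _) (Category.id_comp _)
  have h2 := topL_φ D u hu Y E _ _ hx ⟨trL D m, (trL_cart D m).w⟩
  have h3 : ((dd D u hu).φ _ _ hx ⟨trL D m, (trL_cart D m).w⟩).1 = trL D m' :=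
    h1.trans (Category.id_comp _)
  rw [h3] at h2
  exact h2.symm

/-- the descended total space, over `S` -/
abbrev PY : Over S := Over.mk (Y.hom ≫ U.hom)

/-- the descended structure morphism -/
abbrev πY : PY Y ⟶ U := Over.homMk Y.hom rfl

variable (hgen : ∀ a : R.arrows.category, ∃ i, Nonempty (a ⟶ ai u hu i))

/-- a member of the family through which `a` factors -/
noncomputable def idx (a : R.arrows.category) : I := (hgen a).choose

/-- the factorisation -/
noncomputable def mor (a : R.arrows.category) : a ⟶ ai u hu (idx u hu hgen a) :=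
  (hgen a).choose_spec.some

lemma legL_w (a : R.arrows.category) {i : I} (m : a ⟶ ai u hu i) :
    (trL D m ≫ topL D u hu Y E i) ≫ (Y.hom ≫ U.hom) = (D.obj a).P.hom := by
  have e1 : m.hom.left.left ≫ (u i ≫ U.hom) = a.obj.left.hom := Over.w m.hom.left
  have e2 : paL D a ≫ a.obj.left.hom = (D.obj a).P.hom := Over.w (pa D a)
  rw [Category.assoc, ← Category.assoc (topL D u hu Y E i), (topL_cart D u hu Y E i).w,
    Category.assoc, ← Category.assoc (trL D m), (trL_cart D m).w, Category.assoc, e1, e2]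

/-- the legs of all members of the sieve -/
noncomputable def topA (a : R.arrows.category) : (D.obj a).P ⟶ PY Y :=
  Over.homMk (trL D (mor u hu hgen a) ≫ topL D u hu Y E (idx u hu hgen a))
    (legL_w D u hu Y E a (mor u hu hgen a))

lemma topA_left (a : R.arrows.category) {i : I} (m : a ⟶ ai u hu i) :
    (topA D u hu Y E hgen a).left = trL D m ≫ topL D u hu Y E i :=
  leg_indep D u hu Y E a _ m

lemma topA_tr {a b : R.arrows.category} (w : a ⟶ b) :
    (D.map w).top ≫ topA D u hu Y E hgen b = topA D u hu Y E hgen a := by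
  apply Over.OverMorphism.ext
  change trL D w ≫ (topA D u hu Y E hgen b).left = (topA D u hu Y E hgen a).left
  rw [topA_left D u hu Y E hgen b (mor u hu hgen b), ← Category.assoc, ← trL_comp,
    ← topA_left D u hu Y E hgen a (w ≫ mor u hu hgen b)]

lemma topA_cart (a : R.arrows.category) :
    IsPullback (topA D u hu Y E hgen a) (pa D a) (πY Y) a.obj.hom := by
  have hL : IsPullback (topA D u hu Y E hgen a).left (paL D a) Y.hom a.obj.hom.left := by
    have h := (trL_cart D (mor u hu hgen a)).paste_horiz (topL_cart D u hu Y E (idx u hu hgen a))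
    have e : (mor u hu hgen a).hom.left.left ≫ u (idx u hu hgen a) = a.obj.hom.left :=
      congrArg (fun k => k.left) (Over.w (mor u hu hgen a).hom)
    rw [e] at h
    exact h
  exact IsPullback.of_map (Over.forget S) (Over.OverMorphism.ext hL.w) hL

/-- the cartesian cocone of schemes -/
noncomputable def cdataY : CData R where
  Pa a := (D.obj a).P
  pa a := pa D a
  tr w := (D.map w).top
  tr_pa w := (tr_cart D w).w
  P := PY Y
  π := πY Y
  top a := topA D u hu Y E hgen a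
  top_tr w := topA_tr D u hu Y E hgen w
  cart a := topA_cart D u hu Y E hgen a

/-- the torsor structures -/
noncomputable def tdataY : TData (cdataY D u hu Y E hgen) G where
  act a := (D.obj a).act.act
  act_tr w := ((D.map w).eqv).symm
  tors a := cart_pa (D.obj a) (proj D a)

variable (J : GrothendieckTopology (Over S)) [J.Subcanonical] (hRJ : R ∈ J U)

lemma act_nat {a b : R.arrows.category} (w : a ⟶ b) :
    (G ◁ (cdataY D u hu Y E hgen).tr w) ≫ (D.obj b).act.act ≫ topA D u hu Y E hgen b =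
      (D.obj a).act.act ≫ topA D u hu Y E hgen a := by
  change (G ◁ (D.map w).top) ≫ _ = _
  rw [← Category.assoc, ← (D.map w).eqv, Category.assoc, topA_tr]

/-- the descended action morphism -/
noncomputable def actP : G ⊗ PY Y ⟶ PY Y :=
  ((cdataY D u hu Y E hgen).exists_unique_desc J hRJ G (PY Y)
    (fun a => (D.obj a).act.act ≫ topA D u hu Y E hgen a)
    (fun w => act_nat D u hu Y E hgen w)).exists.choose

lemma actP_spec (a : R.arrows.category) :
    (G ◁ topA D u hu Y E hgen a) ≫ actP D u hu Y E hgen J hRJ =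
      (D.obj a).act.act ≫ topA D u hu Y E hgen a :=
  ((cdataY D u hu Y E hgen).exists_unique_desc J hRJ G (PY Y)
    (fun a => (D.obj a).act.act ≫ topA D u hu Y E hgen a)
    (fun w => act_nat D u hu Y E hgen w)).exists.choose_spec a

/-- the descended equivariant map -/
noncomputable def φP : PY Y ⟶ X :=
  ((cdataY D u hu Y E hgen).exists_unique_desc₀ J hRJ X (fun a => (D.obj a).φ)
    (fun w => (D.map w).wφ)).exists.choose

lemma φP_spec (a : R.arrows.category) :
    topA D u hu Y E hgen a ≫ φP D u hu Y E hgen J hRJ = (D.obj a).φ :=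
  ((cdataY D u hu Y E hgen).exists_unique_desc₀ J hRJ X (fun a => (D.obj a).φ)
    (fun w => (D.map w).wφ)).exists.choose_spec a

/-- the descended action -/
noncomputable def actY : AlgGrp.Action G (PY Y) where
  act := actP D u hu Y E hgen J hRJ
  one_act := by
    apply (cdataY D u hu Y E hgen).hom_ext J hRJ
    intro a
    change (𝟙_ (Over S) ◁ topA D u hu Y E hgen a) ≫ (η[G] ▷ PY Y) ≫ actP D u hu Y E hgen J hRJ =
      (𝟙_ (Over S) ◁ topA D u hu Y E hgen a) ≫ (λ_ (PY Y)).hom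
    rw [whisker_exchange_assoc, actP_spec, reassoc_of% (D.obj a).act.one_act,
      leftUnitor_naturality]
  mul_act := by
    apply (cdataY D u hu Y E hgen).hom_ext J hRJ
    intro a
    have hL : ((G ⊗ G) ◁ topA D u hu Y E hgen a) ≫ (μ[G] ▷ PY Y) ≫ actP D u hu Y E hgen J hRJ =
        (α_ G G (D.obj a).P).hom ≫ (G ◁ (D.obj a).act.act) ≫ (D.obj a).act.act ≫
          topA D u hu Y E hgen a := by
      rw [whisker_exchange_assoc, actP_spec, reassoc_of% (D.obj a).act.mul_act]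
    have hR : ((G ⊗ G) ◁ topA D u hu Y E hgen a) ≫ (α_ G G (PY Y)).hom ≫
        (G ◁ actP D u hu Y E hgen J hRJ) ≫ actP D u hu Y E hgen J hRJ =
        (α_ G G (D.obj a).P).hom ≫ (G ◁ (D.obj a).act.act) ≫ (D.obj a).act.act ≫
          topA D u hu Y E hgen a := by
      rw [associator_naturality_right_assoc, ← MonoidalCategory.whiskerLeft_comp_assoc, actP_spec,
        MonoidalCategory.whiskerLeft_comp_assoc, actP_spec]
    exact hL.trans hR.symm

lemma eqvY : actP D u hu Y E hgen J hRJ ≫ φP D u hu Y E hgen J hRJ =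
    (G ◁ φP D u hu Y E hgen J hRJ) ≫ aX.act := by
  apply (cdataY D u hu Y E hgen).hom_ext J hRJ
  intro a
  change (G ◁ topA D u hu Y E hgen a) ≫ actP D u hu Y E hgen J hRJ ≫ φP D u hu Y E hgen J hRJ =
    (G ◁ topA D u hu Y E hgen a) ≫ (G ◁ φP D u hu Y E hgen J hRJ) ≫ aX.act
  rw [← Category.assoc, actP_spec, Category.assoc, φP_spec, (D.obj a).eqv,
    ← MonoidalCategory.whiskerLeft_comp_assoc, φP_spec]

lemma cartY : IsPullback (actP D u hu Y E hgen J hRJ) (snd G (PY Y)) (πY Y) (πY Y) :=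
  (tdataY D u hu Y E hgen).isPullback J hRJ (actP D u hu Y E hgen J hRJ)
    (fun a => actP_spec D u hu Y E hgen J hRJ a)

include E hgen in
lemma locY [K.IsStableUnderComposition] (R₀ : Presieve U.left) (hR₀ : R₀ ∈ K U.left)
    (hR₀R : ∀ ⦃T' : Scheme.{u}⦄ (f : T' ⟶ U.left), R₀ f →
      R (Over.homMk f rfl : Over.mk (f ≫ U.hom) ⟶ U)) :
    NonAbH1.IsLocallyTrivialFor K (Over.mk (πY Y).left : Over U.left) := by
  obtain ⟨ι₀, X₀, f₀, rfl⟩ := R₀.exists_eq_ofArrows
  have h1 : ∀ i₀ : ι₀, ∃ R' ∈ K (X₀ i₀), ∀ ⦃S' : Scheme.{u}⦄ (g : S' ⟶ X₀ i₀), R' g →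
      ∃ s : S' ⟶ Y.left, s ≫ Y.hom = g ≫ f₀ i₀ := by
    intro i₀
    obtain ⟨R', hR', hs⟩ := loc_transport
      (D.obj (mkObj R (Over.homMk (f₀ i₀) rfl : Over.mk (f₀ i₀ ≫ U.hom) ⟶ U) (hR₀R _ ⟨i₀⟩)))
      (proj D (mkObj R (Over.homMk (f₀ i₀) rfl : Over.mk (f₀ i₀ ≫ U.hom) ⟶ U) (hR₀R _ ⟨i₀⟩)))
    refine ⟨R', hR', fun S' g hg => ?_⟩
    obtain ⟨s, hs'⟩ := hs g hg
    refine ⟨s ≫ (topA D u hu Y E hgen _).left, ?_⟩
    have hw := congrArg (fun k => k.left) (topA_cart D u hu Y E hgen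
      (mkObj R (Over.homMk (f₀ i₀) rfl : Over.mk (f₀ i₀ ≫ U.hom) ⟶ U) (hR₀R _ ⟨i₀⟩))).w
    have hw' : (topA D u hu Y E hgen (mkObj R (Over.homMk (f₀ i₀) rfl :
        Over.mk (f₀ i₀ ≫ U.hom) ⟶ U) (hR₀R _ ⟨i₀⟩))).left ≫ Y.hom =
        (pa D (mkObj R (Over.homMk (f₀ i₀) rfl : Over.mk (f₀ i₀ ≫ U.hom) ⟶ U)
          (hR₀R _ ⟨i₀⟩))).left ≫ f₀ i₀ := hw
    rw [Category.assoc, hw', ← Category.assoc]
    congr 1
  choose R' hR' hs using h1
  have h2 : ∀ i₀, ∃ (σ : Type (u + 1)) (Y' : σ → Scheme.{u}) (g' : ∀ j, Y' j ⟶ X₀ i₀),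
      R' i₀ = Presieve.ofArrows Y' g' := fun i₀ => (R' i₀).exists_eq_ofArrows
  choose σ Y' g' hg' using h2
  refine ⟨Presieve.ofArrows (fun p : Σ i, σ i => Y' p.1 p.2) (fun p => g' p.1 p.2 ≫ f₀ p.1),
    Precoverage.comp_mem_coverings f₀ hR₀ g' (fun i₀ => by rw [← hg' i₀]; exact hR' i₀), ?_⟩
  rintro S' g ⟨p⟩
  obtain ⟨s, hs'⟩ := hs p.1 (g' p.1 p.2) (by rw [hg' p.1]; exact ⟨p.2⟩)
  exact ⟨s, hs'⟩

include E hgen hRJ in
/-- **Effectivity**: every descent datum has a cocone. -/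
theorem exists_cocone_of_effective [K.IsStableUnderComposition] (R₀ : Presieve U.left)
    (hR₀ : R₀ ∈ K U.left)
    (hR₀R : ∀ ⦃T' : Scheme.{u}⦄ (f : T' ⟶ U.left), R₀ f →
      R (Over.homMk f rfl : Over.mk (f ≫ U.hom) ⟶ U)) : Nonempty (Cocone D) := by
  let A : AlgSt.QuotObj K G aX :=
    { base := U
      P := PY Y
      act := actY D u hu Y E hgen J hRJ
      π := πY Y
      cart := cartY D u hu Y E hgen J hRJ
      loc := locY D u hu Y E hgen R₀ hR₀ hR₀R
      φ := φP D u hu Y E hgen J hRJ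
      eqv := eqvY D u hu Y E hgen J hRJ }
  let leg : ∀ a : R.arrows.category, D.obj a ⟶ A := fun a =>
    AlgSt.QuotObj.Hom.mk (eqToHom (proj D a) ≫ a.obj.hom) (topA D u hu Y E hgen a)
      (actP_spec D u hu Y E hgen J hRJ a).symm
      (isPullback_conj'' (proj D a) (topA_cart D u hu Y E hgen a))
      (φP_spec D u hu Y E hgen J hRJ a)
  refine ⟨StackDescent.Cocone.mk A rfl leg (fun a => ?_) (fun a b w => ?_)⟩
  · apply IsHomLift.of_fac' (AlgSt.QuotSt K G aX).p a.obj.hom (leg a) (proj D a) rfl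
    change eqToHom (proj D a) ≫ a.obj.hom = _
    simp
  · apply AlgSt.QuotObj.hom_ext
    · change (D.map w).base ≫ eqToHom (proj D b) ≫ b.obj.hom = eqToHom (proj D a) ≫ a.obj.hom
      rw [map_base, ← Over.w w.hom]
      simp
    · exact topA_tr D u hu Y E hgen w

end Groth.Agent.H3.QStk
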