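import Mathlib
import Groth.Prelude.Def_AlgSt5
import Groth.Agent.Lib.Helper3.QStk.Glue
import Groth.Agent.Lib.Helper3.StackMore

/-!
# `[X/G]` is a stack for affine `G` (helper3)
-/

set_option autoImplicit false
set_option backward.isDefEq.respectTransparency false
set_option backward.isDefEq.respectTransparency.types false

universe u

open CategoryTheory CategoryTheory.Limits MonoidalCategory CartesianMonoidalCategory MonObj GrpObj
  AlgebraicGeometry Opposite

namespace Groth.Agent.H3.QStk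

open Groth.Agent.H3.StackDescent Desc

variable {S : Scheme.{u}} {K : Precoverage Scheme.{u}} {G : Over S} [GrpObj G] {X : Over S}
  {aX : AlgGrp.Action G X}

instance : (QuotSh.J Scheme.fpqcPrecoverage S).Subcanonical := inferInstance

/-- descent along a small family which is a covering for `K` and for the fpqc topology -/
theorem isStackFor_of_family (hK : K ≤ Scheme.fpqcPrecoverage) [K.IsStableUnderBaseChange]
    [K.IsStableUnderComposition] [IsAffineHom G.hom]
    {U : Over S} (R : Sieve U) {I : Type u} {T : I → Scheme.{u}} (u : ∀ i, T i ⟶ U.left)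
    (hu : ∀ i, R (uO u i))
    (hcov : Presieve.ofArrows T u ∈ Scheme.fpqcPrecoverage U.left)
    (hcovK : Presieve.ofArrows T u ∈ K U.left)
    (hgen : ∀ a : R.arrows.category, ∃ i, Nonempty (a ⟶ ai u hu i))
    (hRJ : R ∈ QuotSh.J Scheme.fpqcPrecoverage S U) :
    Stk.IsStackFor R (AlgSt.QuotSt K G aX) := by
  rw [isStackFor_iff isFibGrpd]
  refine ⟨fun D => ?_, fun D s t =>
    exists_unique_hom D (QuotSh.J Scheme.fpqcPrecoverage S) hRJ s t⟩
  obtain ⟨Y, ⟨E⟩⟩ := dd_isEffective D u hu hK hcov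
  refine exists_cocone_of_effective D u hu Y E hgen (QuotSh.J Scheme.fpqcPrecoverage S) hRJ
    (Presieve.ofArrows T u) hcovK ?_
  rintro T' f ⟨i⟩
  exact hu i

section FamSieve

variable {U : Over S} {I : Type u} {T : I → Scheme.{u}} (u : ∀ i, T i ⟶ U.left)

/-- the sieve generated by a family -/
def famSieve : Sieve U := Sieve.generate (Presieve.ofArrows (fun i => TO u i) (fun i => uO u i))

lemma famSieve_mem (i : I) : famSieve u (uO u i) :=
  ⟨_, 𝟙 _, uO u i, Presieve.ofArrows.mk i, Category.id_comp _⟩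

lemma famSieve_gen (a : (famSieve u).arrows.category) :
    ∃ i, Nonempty (a ⟶ ai u (famSieve_mem u) i) := by
  obtain ⟨Y, h, g, hg, e⟩ := a.property
  obtain ⟨i⟩ := hg
  exact ⟨i, ⟨ObjectProperty.homMk (Over.homMk h e)⟩⟩

lemma famSieve_cov (hcov : Presieve.ofArrows T u ∈ Scheme.fpqcPrecoverage U.left) :
    famSieve u ∈ QuotSh.J Scheme.fpqcPrecoverage S U := by
  rw [GrothendieckTopology.mem_over_iff]
  refine GrothendieckTopology.superset_covering _ ?_
    (Precoverage.generate_mem_toGrothendieck hcov)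
  rintro Z f ⟨Y, h, g, ⟨i⟩, rfl⟩
  rw [Sieve.overEquiv_iff]
  refine ⟨TO u i, Over.homMk h (by simp), uO u i, ⟨i⟩, ?_⟩
  apply Over.OverMorphism.ext
  simp

end FamSieve

/-- **`[X/G]` is a stack** for a topology between the Zariski-like generated ones and fpqc whose
coverings have small refinements, when `G ⟶ S` is affine. -/
theorem isStack_of_small (hK : K ≤ Scheme.fpqcPrecoverage) [K.IsStableUnderBaseChange]
    [K.IsStableUnderComposition] [K.HasIsos] [K.HasPullbacks] [IsAffineHom G.hom]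
    (hsmall : ∀ (V : Scheme.{u}) (R₀ : Presieve V), R₀ ∈ K V →
      ∃ (I : Type u) (T : I → Scheme.{u}) (f : ∀ i, T i ⟶ V),
        Presieve.ofArrows T f ∈ K V ∧ ∀ i, Sieve.generate R₀ (f i)) :
    Stk.IsStack (QuotSh.J K S) (AlgSt.QuotSt K G aX) := by
  refine ⟨isFibGrpd, fun U R hR => ?_⟩
  have h1 : Sieve.overEquiv U R ∈ K.toGrothendieck U.left :=
    (GrothendieckTopology.mem_over_iff _ _).mp hR
  rw [Precoverage.mem_toGrothendieck_iff_of_isStableUnderComposition] at h1
  obtain ⟨R₀, hR₀, hle⟩ := h1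
  obtain ⟨I, T, u, hcovK, hgenR₀⟩ := hsmall _ R₀ hR₀
  have hcov : Presieve.ofArrows T u ∈ Scheme.fpqcPrecoverage U.left := hK _ hcovK
  have hSR : famSieve u ≤ R := by
    rw [famSieve, Sieve.generate_le_iff]
    rintro Z f ⟨i⟩
    have h2 : Sieve.overEquiv U R (u i) :=
      (Sieve.generate_le_iff R₀ (Sieve.overEquiv U R)).mpr hle _ (hgenR₀ i)
    exact (Sieve.overEquiv_iff R (u i)).mp h2
  have hJ' : famSieve u ∈ QuotSh.J Scheme.fpqcPrecoverage S U := famSieve_cov u hcov
  exact Groth.Agent.H3.StackMore.isStackFor_of_refinement hSR isFibGrpd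
    (isStackFor_of_family hK (famSieve u) u (famSieve_mem u) hcov hcovK (famSieve_gen u) hJ')
    (fun V f hf => isPrestackFor (QuotSh.J Scheme.fpqcPrecoverage S)
      (GrothendieckTopology.pullback_stable _ f hJ'))

/-- coverings for a precoverage of jointly surjective families of `P`-morphisms have small
refinements -/
lemma small_precoverage (P : MorphismProperty Scheme.{u}) (V : Scheme.{u}) (R₀ : Presieve V)
    (h : R₀ ∈ Scheme.precoverage P V) :
    ∃ (I : Type u) (T : I → Scheme.{u}) (f : ∀ i, T i ⟶ V),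
      Presieve.ofArrows T f ∈ Scheme.precoverage P V ∧ ∀ i, Sieve.generate R₀ (f i) := by
  obtain ⟨ι₀, X₀, f₀, rfl⟩ := R₀.exists_eq_ofArrows
  rw [Scheme.ofArrows_mem_precoverage_iff] at h
  obtain ⟨hs, hP⟩ := h
  choose i₀ hi₀ using hs
  refine ⟨V, fun x => X₀ (i₀ x), fun x => f₀ (i₀ x), ?_, fun x => ⟨_, 𝟙 _, f₀ (i₀ x), Presieve.ofArrows.mk (i₀ x), Category.id_comp _⟩⟩
  rw [Scheme.ofArrows_mem_precoverage_iff]
  exact ⟨fun x => ⟨x, hi₀ x⟩, fun x => hP (i₀ x)⟩

/-- **S12836**: `[X/G]` is an fppf stack for affine `G`. -/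
theorem isStack_fppf [IsAffineHom G.hom] :
    Stk.IsStack (QuotSh.J Scheme.fppfPrecoverage S)
      (AlgSt.QuotSt Scheme.fppfPrecoverage G aX) :=
  isStack_of_small Scheme.fppfPrecoverage_le_fpqcPrecoverage
    (fun V R₀ h => small_precoverage _ V R₀ h)

end Groth.Agent.H3.QStk
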