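import Mathlib
import Groth.Prelude.Def_AlgSt5
import Groth.Agent.Lib.Helper3.QStk.Main

/-!
# `BG` and `[X/G]` are fpqc stacks for affine `G` (helper3)
-/

set_option autoImplicit false
set_option backward.isDefEq.respectTransparency false
set_option backward.isDefEq.respectTransparency.types false

universe u

open CategoryTheory CategoryTheory.Limits MonoidalCategory CartesianMonoidalCategory MonObj GrpObj
  AlgebraicGeometry Opposite

namespace Groth.Agent.H3.QStk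

/-- fpqc coverings have small fpqc refinements -/
lemma small_fpqc (V : Scheme.{u}) (R₀ : Presieve V) (h : R₀ ∈ Scheme.fpqcPrecoverage V) :
    ∃ (I : Type u) (T : I → Scheme.{u}) (f : ∀ i, T i ⟶ V),
      Presieve.ofArrows T f ∈ Scheme.fpqcPrecoverage V ∧ ∀ i, Sieve.generate R₀ (f i) := by
  obtain ⟨ι₀, X₀, f₀, rfl⟩ := R₀.exists_eq_ofArrows
  let E : PreZeroHypercover.{u + 1} V := { I₀ := ι₀, X := X₀, f := f₀ }
  have hE : E.presieve₀ ∈ Scheme.fpqcPrecoverage V := h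
  have hqc : QuasiCompactCover E := Scheme.presieve₀_mem_qcPrecoverage_iff.mp hE.1
  have hfl : ∀ i, Flat (f₀ i) := fun i => h.2.2 ⟨i⟩
  have hW : ∀ W : V.affineOpens, ∃ (n : ℕ) (a : Fin n → ι₀) (O : ∀ k, (X₀ (a k)).Opens),
      (∀ k, IsAffineOpen (O k)) ∧ ⋃ k, f₀ (a k) '' (O k) = (W.1 : Set V) :=
    fun W => QuasiCompactCover.exists_isAffineOpen_of_isCompact E W.2.isCompact
  choose n a O hO hU using hW
  let E' : PreZeroHypercover.{u} V :=
    { I₀ := Σ W : V.affineOpens, Fin (n W)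
      X := fun p => (O p.1 p.2).toScheme
      f := fun p => (O p.1 p.2).ι ≫ f₀ (a p.1 p.2) }
  have hrange : ∀ p : E'.I₀, Set.range (E'.f p) = f₀ (a p.1 p.2) '' (O p.1 p.2) := by
    intro p
    change Set.range ((O p.1 p.2).ι ≫ f₀ (a p.1 p.2)) = _
    rw [Scheme.Hom.comp_base, TopCat.coe_comp, Set.range_comp, Scheme.Opens.range_ι]
  refine ⟨E'.I₀, E'.X, E'.f, ⟨?_, ?_⟩, fun p => ?_⟩
  · change E'.presieve₀ ∈ Scheme.qcPrecoverage V
    rw [Scheme.presieve₀_mem_qcPrecoverage_iff]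
    refine ⟨fun {W} hW => ?_⟩
    refine IsCompactOpenCovered.of_finite (κ := Fin (n ⟨W, hW⟩))
      (fun k => (⟨⟨W, hW⟩, k⟩ : E'.I₀)) (fun k => ⊤) (fun k => ?_) ?_
    · have : IsAffine (E'.X ⟨⟨W, hW⟩, k⟩) := hO ⟨W, hW⟩ k
      exact isCompact_univ
    · rw [← hU ⟨W, hW⟩]
      refine Set.iUnion_congr fun k => ?_
      rw [← hrange ⟨⟨W, hW⟩, k⟩]
      simp
  · rw [Scheme.ofArrows_mem_precoverage_iff]
    refine ⟨fun x => ?_, fun p => ?_⟩
    · obtain ⟨W, hW, hxW, -⟩ := TopologicalSpace.Opens.isBasis_iff_nbhd.mp V.isBasis_affineOpens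
        (TopologicalSpace.Opens.mem_top x)
      have hx : x ∈ ⋃ k, f₀ (a ⟨W, hW⟩ k) '' (O ⟨W, hW⟩ k) := by rw [hU]; exact hxW
      obtain ⟨k, hk⟩ := Set.mem_iUnion.mp hx
      refine ⟨⟨⟨W, hW⟩, k⟩, ?_⟩
      rw [hrange]
      exact hk
    · have := hfl (a p.1 p.2)
      change Flat ((O p.1 p.2).ι ≫ f₀ (a p.1 p.2))
      infer_instance
  · exact ⟨_, (O p.1 p.2).ι, f₀ (a p.1 p.2), Presieve.ofArrows.mk _, rfl⟩

variable {S : Scheme.{u}} {G : Over S} [GrpObj G] {X : Over S} {aX : AlgGrp.Action G X}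

/-- `[X/G]` is an fpqc stack for affine `G`. -/
theorem isStack_fpqc [IsAffineHom G.hom] :
    Stk.IsStack (QuotSh.J Scheme.fpqcPrecoverage S)
      (AlgSt.QuotSt Scheme.fpqcPrecoverage G aX) :=
  isStack_of_small le_rfl (fun V R₀ h => small_fpqc V R₀ h)

end Groth.Agent.H3.QStk
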